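import Groth.Agent.SeeSaw5.SectionFlat
import Groth.Agent.CubeLib.FibreRankLoci
import Groth.Agent.AbVarLib.AlgClosedIntegral
import Groth.Agent.PicLib.FlatTriv

/-!
# Families of invertible modules that are locally trivial after base change
-/

set_option autoImplicit false
set_option backward.isDefEq.respectTransparency false
set_option linter.style.haveILetI false

universe u

open CategoryTheory CategoryTheory.Limits AlgebraicGeometry Opposite TopologicalSpace
open Groth.Agent.Coherent Groth.Agent.PicLib Groth.Agent.AmpleLib Groth.Agent.Coherent.CohBC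

namespace Groth.Agent.SeeSaw5

variable {X S : Scheme.{u}}

/-- The class becomes trivial, locally on the source of `u`, after base change along `u`. -/
def Triv (f : X ⟶ S) (a : PicM X) ⦃T : Scheme.{u}⦄ (u : T ⟶ S) : Prop :=
  ∀ t : T, ∃ W : T.Opens, t ∈ W ∧ PicM.pull (pullback.fst f (W.ι ≫ u)) a = 1

variable {f : X ⟶ S} {a : PicM X}

/-- A class trivial after a base change is trivial on anything mapping to it. -/
theorem pull_eq_one_of_comm {W W' X' : Scheme.{u}} {v : W ⟶ S} (h : PicM.pull (pullback.fst f v) a = 1)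
    (g' : X' ⟶ X) (f' : X' ⟶ W') (k : W' ⟶ W) (w : g' ≫ f = f' ≫ k ≫ v) : PicM.pull g' a = 1 := by
  have e : pullback.lift g' (f' ≫ k) (by rw [w, Category.assoc]) ≫ pullback.fst f v = g' := pullback.lift_fst _ _ _
  rw [← e, ← PicM.pull_pull, h, map_one]

theorem Triv.precomp {T T' : Scheme.{u}} (x : T' ⟶ T) {u : T ⟶ S} (h : Triv f a u) : Triv f a (x ≫ u) := by
  intro t'
  obtain ⟨W, hW, hpull⟩ := h (x t')
  refine ⟨x ⁻¹ᵁ W, hW, pull_eq_one_of_comm hpull _ (pullback.snd _ _) (x ∣_ W) ?_⟩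
  rw [pullback.condition, ← Category.assoc (x ∣_ W), morphismRestrict_ι, Category.assoc]

theorem Triv.of_local {T : Scheme.{u}} (u : T ⟶ S)
    (h : ∀ t : T, ∃ U : T.Opens, t ∈ U ∧ Triv f a (U.ι ≫ u)) : Triv f a u := by
  intro t
  obtain ⟨U, htU, hU⟩ := h t
  obtain ⟨W, htW, hpull⟩ := hU ⟨t, htU⟩
  let W' := U.ι ''ᵁ W
  let k : W'.toScheme ⟶ W.toScheme := IsOpenImmersion.lift (W.ι ≫ U.ι) W'.ι (by
    rintro _ ⟨z, rfl⟩
    obtain ⟨w, hw, hwz⟩ := z.2
    exact ⟨⟨w, hw⟩, hwz⟩)
  have hk : k ≫ W.ι ≫ U.ι = W'.ι := IsOpenImmersion.lift_fac _ _ _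
  refine ⟨W', ⟨⟨t, htU⟩, htW, rfl⟩, pull_eq_one_of_comm hpull _ (pullback.snd _ _) k ?_⟩
  rw [pullback.condition, reassoc_of% hk]

section

variable [IsProper f] [Flat f] [LocallyOfFinitePresentation f] [GeometricallyConnected f] [GeometricallyReduced f]

omit [IsProper f] [LocallyOfFinitePresentation f] [GeometricallyConnected f] [GeometricallyReduced f] in
theorem isFlatOver_of_invertible {L : X.Modules} (hL : PicF.IsInvertible L) : FlatMod.IsFlatOver f L :=
  isFlatOver_of_isFinLocFree f fun x =>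
    let ⟨U, hx, e⟩ := isFinLocFreeOfRank_one hL x; ⟨U, 1, hx, e⟩

omit [LocallyOfFinitePresentation f] in
/-- A trivialisation after base change gives rank one and a good chart point. -/
theorem rank_good_of_triv {L : X.Modules} (hL : PicF.IsInvertible L) {T : Scheme.{u}} {u : T ⟶ S}
    (h : Triv f (PicM.of hL) u) (t : T) :
    CohIII.fiberRank f L 0 (u t) = 1 ∧ ∀ C : CohExch.Chart f L, u t ∈ C.U → C.Good u t := by
  have := AmpleLib.isQCoh_of_isInvertible hL
  obtain ⟨W, htW, hpull⟩ := h t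
  let g' := pullback.fst f (W.ι ≫ u)
  let f' := pullback.snd f (W.ι ≫ u)
  have hsq : IsPullback g' f' f (W.ι ≫ u) := IsPullback.of_hasPullback _ _
  have : IsProper f' := MorphismProperty.pullback_snd (P := @IsProper) _ _ inferInstance
  have : GeometricallyConnected f' := MorphismProperty.pullback_snd (P := @GeometricallyConnected) _ _ inferInstance
  have : GeometricallyReduced f' := MorphismProperty.pullback_snd (P := @GeometricallyReduced) _ _ inferInstance
  have hL' := PicLoc.isInvertible_pullback g' hL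
  have h1 : PicM.of hL' = 1 := (PicM.pull_of g' hL).symm.trans hpull
  let w : W.toScheme := ⟨t, htW⟩
  have hy := CubeLib.bijective_algebraMap_fibre f' w
  refine ⟨?_, fun C hC => ?_⟩
  · have := CubeLib.fiberRank_eq_one (f := f') (hL := hL') hy (by rw [h1, map_one])
    rwa [fiberRank_pullback hsq L 0 w] at this
  · refine (show C.Good (W.ι ≫ u) w from ?_).of_openImmersion W.ι
    have : Subsingleton ↥(Spec (W.toScheme.residueField w)) :=
      inferInstanceAs (Subsingleton (PrimeSpectrum (W.toScheme.residueField w)))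
    refine C.good_of_epi0 (isFlatOver_of_invertible hL) hsq hC ((CohExch.epi_iff_surjective_top _).2 fun z => ?_)
    obtain ⟨σ, hσ⟩ := CubeLib.exists_isGen_top h1
    obtain ⟨r, hr⟩ := ((isGen_pullSec (f'.fiberι w) hσ hL') ⊤ le_rfl).2 z
    obtain ⟨c, hc⟩ := hy.2 r
    let c' : Γ(Spec (W.toScheme.residueField w), ⊤) := (Scheme.ΓSpecIso (W.toScheme.residueField w)).inv c
    let s₀ : Γ((Scheme.Modules.pullback (W.toScheme.fromSpecResidueField w)).obj
        ((Scheme.Modules.pushforward f').obj ((Scheme.Modules.pullback g').obj L)), (⊤ : (Spec _).Opens)) :=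
      pullSec (W.toScheme.fromSpecResidueField w)
        (show Γ((Scheme.Modules.pushforward f').obj ((Scheme.Modules.pullback g').obj L), ⊤) from σ)
    refine ⟨c' • s₀, ?_⟩
    rw [Scheme.Modules.Hom.app_smul]
    let T₀ := (Scheme.Modules.pushforward (f'.fiberToSpecResidueField w)).obj
      ((Scheme.Modules.pullback (f'.fiberι w)).obj ((Scheme.Modules.pullback g').obj L))
    have hb : @Eq Γ(T₀, (⊤ : (Spec (W.toScheme.residueField w)).Opens))
        ((CohBC.bc0 f' (W.toScheme.fromSpecResidueField w) (f'.fiberToSpecResidueField w) (f'.fiberι w)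
          (f'.fiber_fac w) ((Scheme.Modules.pullback g').obj L)).app ⊤ s₀) _ :=
      CohExch.bc0_pullSec (f'.fiber_fac w) ((Scheme.Modules.pullback g').obj L) ⊤ σ
    refine (congrArg (fun q : Γ(T₀, (⊤ : (Spec (W.toScheme.residueField w)).Opens)) => c' • q) hb).trans ?_
    rw [← hr, ← hc]
    rfl

omit [LocallyOfFinitePresentation f] [GeometricallyConnected f] [GeometricallyReduced f] in
/-- Triviality on a fibre spreads out over a chart which is flat out of degree zero. -/
theorem exists_triv_nhd {L : X.Modules} (hL : PicF.IsInvertible L) [Coh.IsQCoh L]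
    (C : CohExch.Chart f L) (hC : C.Flat ((0 : ℕ) : ℤ)) {y : S} (hy : y ∈ C.U)
    (htriv : PicM.pull (f.fiberι y) (PicM.of hL) = 1) :
    ∃ V : S.Opens, y ∈ V ∧ PicM.pull (f ⁻¹ᵁ V).ι (PicM.of hL) = 1 := by
  classical
  obtain ⟨σ, hσ⟩ := CubeLib.exists_isGen_top ((PicM.pull_of (f.fiberι y) hL).symm.trans htriv)
  obtain ⟨U, hyU, t, ht⟩ := exists_section_extending_of_flat (isFlatOver_of_invertible hL) C hC hy σ
  let O : X.Opens := sSup {W | ∃ h : W ≤ f ⁻¹ᵁ U, IsGen L W (resM L h t)}
  have hOU : O ≤ f ⁻¹ᵁ U := sSup_le fun W hW => hW.1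
  have hfib : ∀ x, f x = y → x ∈ O := by
    intro x hx
    obtain ⟨z, rfl⟩ : x ∈ Set.range (f.fiberι y) := (f.range_fiberι y).ge hx
    obtain ⟨W₀, hzW₀, g₀, hg₀⟩ := exists_isGen hL (f.fiberι y z)
    let W := W₀ ⊓ f ⁻¹ᵁ U
    have hxU : f (f.fiberι y z) ∈ U := by rw [hx]; exact hyU
    have hzW : f.fiberι y z ∈ W := ⟨hzW₀, hxU⟩
    have hWU : W ≤ f ⁻¹ᵁ U := inf_le_right
    have hg := hg₀.restrict (inf_le_left : W ≤ W₀)
    let c := hg.coef le_rfl (resM L hWU t)
    have hc : c • resM L (inf_le_left : W ≤ W₀) g₀ = resM L hWU t := by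
      have := hg.coef_spec le_rfl (resM L hWU t)
      rwa [resM_self] at this
    have hgp := isGen_pullSec (f.fiberι y) hg hL
    have hσW : IsGen ((Scheme.Modules.pullback (f.fiberι y)).obj L) (f.fiberι y ⁻¹ᵁ W)
        (pullSec (f.fiberι y) (resM L hWU t)) := by
      rw [← resM_pullSec (f.fiberι y) hWU t, ht, resM_resM]
      exact hσ.restrict _
    have hu : IsUnit ((f.fiberι y).app W c) := by
      rw [← hgp.coef_eq le_rfl (r := (f.fiberι y).app W c) (x := pullSec (f.fiberι y) (resM L hWU t))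
        (by rw [resM_self, ← pullSec_smul, hc])]
      exact hgp.isUnit_coef hσW
    have hzc : f.fiberι y z ∈ X.basicOpen c := by
      show z ∈ f.fiberι y ⁻¹ᵁ X.basicOpen c
      rw [Scheme.preimage_basicOpen, Scheme.basicOpen_of_isUnit _ hu]
      exact hzW
    refine Opens.mem_sSup.2 ⟨X.basicOpen c, ⟨(X.basicOpen_le c).trans hWU, ?_⟩, hzc⟩
    have hcu : IsUnit (res (X.basicOpen_le c) c) :=
      RingedSpace.isUnit_res_basicOpen X.toRingedSpace c
    have := (hg.restrict (X.basicOpen_le c)).smul_unit hcu.unit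
    rw [IsUnit.unit_spec] at this
    rwa [← resM_resM L hWU (X.basicOpen_le c), ← hc, resM_smul]
  let V : S.Opens := U ⊓ ⟨(f '' (O : Set X)ᶜ)ᶜ, (f.isClosedMap _ O.isOpen.isClosed_compl).isOpen_compl⟩
  have hVO : f ⁻¹ᵁ V ≤ O := fun x hx => by
    by_contra h
    exact hx.2 ⟨x, h, rfl⟩
  have hgenO : IsGen L O (resM L hOU t) := by
    refine isGen_of_cover (fun W : {W : X.Opens // ∃ h : W ≤ f ⁻¹ᵁ U, IsGen L W (resM L h t)} => W.1)
      (fun W => le_sSup W.2) (sSup_le fun W hW => le_iSup (fun W : {W : X.Opens // ∃ h : W ≤ f ⁻¹ᵁ U,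
        IsGen L W (resM L h t)} => W.1) ⟨W, hW⟩) fun W => ?_
    rw [resM_resM]
    exact W.2.2
  refine ⟨V, ⟨hyU, fun ⟨x, hx, hxy⟩ => hx (hfib x hxy)⟩,
    pull_eq_one_of_isGen _ hL (hgenO.restrict hVO) ?_⟩
  exact Scheme.Opens.ι_preimage_self _

end

end Groth.Agent.SeeSaw5
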