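import Groth.Agent.SeeSaw5.Triv
import Groth.Agent.H8Coh.ClosedLocus
import Groth.Agent.H8Coh.FibreAmple
import Groth.Agent.AbSchLib.RigidityOver

/-!
# The see-saw subscheme

For a proper flat family of varieties over a locally Noetherian base and an invertible module, the condition on a
morphism to the base that the base change of the module is trivial locally on the source is representable by a closed
subscheme.
-/

set_option autoImplicit false
set_option backward.isDefEq.respectTransparency false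
set_option linter.style.haveILetI false

universe u

open CategoryTheory CategoryTheory.Limits AlgebraicGeometry Opposite TopologicalSpace
open Groth.Agent.Coherent Groth.Agent.PicLib Groth.Agent.AmpleLib Groth.Agent.Coherent.CohBC

namespace Groth.Agent.SeeSaw5

variable {X S : Scheme.{u}} {f : X ⟶ S}

/-- Factoring through a closed immersion into an affine scheme is vanishing of an ideal. -/
theorem exists_ideal_of_closedImmersion {R : CommRingCat.{u}} {P : Scheme.{u}} (p : P ⟶ Spec R)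
    [IsClosedImmersion p] : ∃ I : Ideal R, ∀ (C : CommRingCat.{u}) (ψ : R ⟶ C),
      (∃ z : Spec C ⟶ P, z ≫ p = Spec.map ψ) ↔ I ≤ RingHom.ker ψ.hom := by
  obtain ⟨I, e, he⟩ := (IsClosedImmersion.Spec_iff (f := p)).1 inferInstance
  refine ⟨I, fun C ψ => ⟨?_, fun h => ?_⟩⟩
  · rintro ⟨z, hz⟩
    rw [he, ← Category.assoc] at hz
    obtain ⟨χ, hχ⟩ : ∃ χ, Spec.map χ = z ≫ e.hom := ⟨_, Spec.map_preimage _⟩
    rw [← hχ, ← Spec.map_comp] at hz
    rw [← Spec.map_injective hz]
    intro a ha
    show χ.hom (Ideal.Quotient.mk I a) = 0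
    rw [Ideal.Quotient.eq_zero_iff_mem.2 ha, map_zero]
  · refine ⟨Spec.map (CommRingCat.ofHom (Ideal.Quotient.lift I ψ.hom fun a ha => RingHom.mem_ker.1 (h ha))) ≫ e.inv, ?_⟩
    rw [he, Category.assoc, e.inv_hom_id_assoc, ← Spec.map_comp]
    congr 1

variable [IsProper f] [Flat f] [LocallyOfFinitePresentation f] [GeometricallyIntegral f] [IsLocallyNoetherian S]

omit [Flat f] [LocallyOfFinitePresentation f] [IsLocallyNoetherian S] [IsProper f] in
theorem isIntegral_fiber (y : S) : IsIntegral (f.fiber y) :=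
  GeometricallyIntegral.geometrically_isIntegral (f := f) (S.fromSpecResidueField y) _ _
    (IsPullback.of_hasPullback f (S.fromSpecResidueField y))

omit [LocallyOfFinitePresentation f] in
/-- The points under a family which is locally trivial after base change have trivial fibres. -/
theorem fibre_trivial_of_triv {L : X.Modules} (hL : PicF.IsInvertible L) {T : Scheme.{u}} {u : T ⟶ S}
    (h : Triv f (PicM.of hL) u) (t : T) : PicM.pull (f.fiberι (u t)) (PicM.of hL) = 1 := by
  haveI := AbSchLib.geometricallyConnected_of_irreducible f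
  obtain ⟨b, hb⟩ := PicM.exists_mul_eq_one (PicM.of hL)
  obtain ⟨M, hM, rfl⟩ := PicM.exists_eq_of b
  have h' : Triv f (PicM.of hM) u := fun t => by
    obtain ⟨W, htW, hW⟩ := h t
    refine ⟨W, htW, ?_⟩
    have := congrArg (PicM.pull (pullback.fst f (W.ι ≫ u))) hb
    rwa [map_mul, hW, _root_.one_mul, map_one] at this
  obtain ⟨s, hs⟩ := (CubeLib.fiberRank_ne_zero_iff' f hL (u t)).1 (by rw [(rank_good_of_triv hL h t).1]; exact one_ne_zero)
  obtain ⟨s', hs'⟩ := (CubeLib.fiberRank_ne_zero_iff' f hM (u t)).1 (by rw [(rank_good_of_triv hM h' t).1]; exact one_ne_zero)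
  have := isIntegral_fiber (f := f) (u t)
  have : IsProper (f.fiberToSpecResidueField (u t)) :=
    MorphismProperty.pullback_snd (P := @IsProper) _ _ inferInstance
  rw [PicM.pull_of]
  refine CubeLib.eq_one_of_sections (K := S.residueField (u t)) (f.fiberToSpecResidueField (u t)) _
    (PicLoc.isInvertible_pullback _ hM) ?_ hs hs'
  rw [← PicM.pull_of _ hL, ← PicM.pull_of _ hM, ← map_mul, hb, map_one]

/-- The see-saw subscheme. -/
theorem exists_seesaw {L : X.Modules} (hL : PicF.IsInvertible L) :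
    ∃ (Z : Scheme.{u}) (j : Z ⟶ S), IsClosedImmersion j ∧
      ∀ (U : Scheme.{u}) (g : U ⟶ S), Triv f (PicM.of hL) g ↔ ∃ h : U ⟶ Z, h ≫ j = g := by
  haveI := AbSchLib.geometricallyConnected_of_irreducible f
  have hqc := AmpleLib.isQCoh_of_isInvertible hL
  have hfl := isFlatOver_of_invertible (f := f) hL
  refine H8Coh.exists_closed_locus (fun U g => Triv f (PicM.of hL) g) (fun U U' h g hg => hg.precomp h)
    (fun U g hg => Triv.of_local g hg) fun s => ?_
  obtain ⟨C, hsC, -⟩ := CohExch.exists_chart (H8Coh.FibreAmple.isFP_of_invertible hL) hfl (Opens.mem_top s)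
  refine ⟨C.U, hsC, fun W hW hWC => ?_⟩
  obtain ⟨Zc, j, hj, -, -, huniv⟩ := C.exists_immersion hfl 1
  let u₀ := j ≫ C.U.ι
  let Z₀ : Zc.Opens := sSup {V | PicM.pull (pullback.fst f (V.ι ≫ u₀)) (PicM.of hL) = 1}
  have htriv₀ : Triv f (PicM.of hL) (Z₀.ι ≫ u₀) := by
    intro z
    obtain ⟨V, hV, hzV⟩ := Opens.mem_sSup.1 z.2
    refine ⟨Z₀.ι ⁻¹ᵁ V, hzV, pull_eq_one_of_comm hV _ (pullback.snd _ _) (Z₀.ι ∣_ V) ?_⟩
    rw [pullback.condition, morphismRestrict_ι_assoc]
  have hmem : ∀ z : Zc, PicM.pull (f.fiberι (u₀ z)) (PicM.of hL) = 1 → z ∈ Z₀ := by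
    intro z hz
    let g' := pullback.fst f u₀
    let f' := pullback.snd f u₀
    have hsq : IsPullback g' f' f u₀ := IsPullback.of_hasPullback _ _
    have : IsProper f' := MorphismProperty.pullback_snd (P := @IsProper) _ _ inferInstance
    have : Flat f' := MorphismProperty.pullback_snd (P := @Flat) _ _ inferInstance
    obtain ⟨C', hzC', hflat⟩ := C.exists_bc_flat hfl hsq (((huniv Zc j).2 ⟨𝟙 _, Category.id_comp _⟩ z).2)
    have hL' := PicLoc.isInvertible_pullback g' hL
    have := AmpleLib.isQCoh_of_isInvertible hL'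
    have hfib : PicM.pull (f'.fiberι z) (PicM.of hL') = 1 := by
      rw [← PicM.pull_of g' hL, PicM.pull_pull]
      refine pull_eq_one_of_comm hz (f'.fiberι z ≫ g') (f'.fiberToSpecResidueField z) (Spec.map (u₀.residueFieldMap z)) ?_
      rw [Category.assoc, hsq.w, Scheme.Hom.SpecMap_residueFieldMap_fromSpecResidueField, f'.fiber_fac_assoc]
    obtain ⟨V, hzV, hV⟩ := exists_triv_nhd hL' C' hflat hzC' hfib
    refine Opens.mem_sSup.2 ⟨V, ?_, hzV⟩
    show PicM.pull (pullback.fst f (V.ι ≫ u₀)) (PicM.of hL) = 1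
    let l : pullback f (V.ι ≫ u₀) ⟶ pullback f u₀ :=
      pullback.lift (pullback.fst _ _) (pullback.snd _ _ ≫ V.ι) (by rw [pullback.condition, Category.assoc])
    have hl : l ≫ f' = pullback.snd _ _ ≫ V.ι := pullback.lift_snd _ _ _
    let l' : pullback f (V.ι ≫ u₀) ⟶ (f' ⁻¹ᵁ V).toScheme := IsOpenImmersion.lift (f' ⁻¹ᵁ V).ι l (by
      rw [Scheme.Opens.range_ι]
      rintro _ ⟨x, rfl⟩
      show f' (l x) ∈ V
      rw [← Scheme.Hom.comp_apply, hl, Scheme.Hom.comp_apply]
      exact (pullback.snd f (V.ι ≫ u₀) x).2)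
    have e : l' ≫ (f' ⁻¹ᵁ V).ι ≫ g' = pullback.fst f (V.ι ≫ u₀) := by
      rw [IsOpenImmersion.lift_fac_assoc]; exact pullback.lift_fst _ _ _
    rw [← e, ← PicM.pull_pull, ← PicM.pull_pull, PicM.pull_of g' hL, hV, map_one]
  let K : Set S := {y | PicM.pull (f.fiberι y) (PicM.of hL) = 1}
  have hK : IsClosed K := CubeLib.isClosed_setOf_trivial_fibre f (isIntegral_fiber (f := f)) hL
  have hrange : Set.range (Z₀.ι ≫ j) = C.U.ι ⁻¹' K := by
    ext c
    constructor
    · rintro ⟨z, rfl⟩
      exact fibre_trivial_of_triv hL htriv₀ z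
    · intro (hc : PicM.pull (f.fiberι (C.U.ι c)) (PicM.of hL) = 1)
      let x : Spec (C.U.toScheme.residueField c) ⟶ C.U.toScheme := C.U.toScheme.fromSpecResidueField c
      have hx : ∀ t, x t = c := fun t => by
        have : x t ∈ Set.range x := ⟨t, rfl⟩
        rwa [Scheme.range_fromSpecResidueField] at this
      have hy := CubeLib.bijective_algebraMap_fibre f (C.U.ι c)
      have hr : ∀ t, CohIII.fiberRank f L 0 ((x ≫ C.U.ι) t) = 1 := fun t => by
        rw [Scheme.Hom.comp_apply, hx]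
        exact CubeLib.fiberRank_eq_one hy hc
      obtain ⟨z, hz⟩ := (huniv _ x).1 fun t => ⟨hr t,
        ((CohExch.stratum_of_field (Field.toIsField _) (x ≫ C.U.ι) hr) t).2 C (by
          show C.U.ι (x t) ∈ C.U
          exact (x t).2)⟩
      let t₀ := IsLocalRing.closedPoint (C.U.toScheme.residueField c)
      have hjz : j (z t₀) = c := by rw [← Scheme.Hom.comp_apply, hz, hx]
      refine ⟨⟨z t₀, hmem _ ?_⟩, hjz⟩
      show PicM.pull (f.fiberι (C.U.ι (j (z t₀)))) (PicM.of hL) = 1
      rw [hjz]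
      exact hc
  haveI : IsClosedImmersion (Z₀.ι ≫ j) :=
    IsClosedImmersion.of_isPreimmersion _ (hrange ▸ hK.preimage C.U.ι.continuous)
  let kW : Spec Γ(S, W) ⟶ C.U.toScheme := hW.isoSpec.inv ≫ S.homOfLE hWC
  have hkW : kW ≫ C.U.ι = hW.fromSpec := by
    rw [Category.assoc, Scheme.homOfLE_ι]; rfl
  obtain ⟨I, hI⟩ := exists_ideal_of_closedImmersion (pullback.snd (Z₀.ι ≫ j) kW)
  refine ⟨I, fun D ψ => ?_⟩
  rw [← hI D ψ, ← hkW, ← Category.assoc]
  show Triv f _ _ ↔ _
  constructor
  · intro h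
    obtain ⟨z, hz⟩ := (huniv _ (Spec.map ψ ≫ kW)).1 fun t =>
      ⟨(rank_good_of_triv hL h t).1, (rank_good_of_triv hL h t).2 C ((Spec.map ψ ≫ kW) t).2⟩
    have hz0 : Set.range z ⊆ Set.range Z₀.ι := by
      rw [Scheme.Opens.range_ι]
      rintro _ ⟨t, rfl⟩
      refine hmem _ ?_
      show PicM.pull (f.fiberι (C.U.ι (j (z t)))) (PicM.of hL) = 1
      rw [← Scheme.Hom.comp_apply z j, hz]
      exact fibre_trivial_of_triv hL h t
    refine ⟨pullback.lift (IsOpenImmersion.lift Z₀.ι z hz0) (Spec.map ψ) ?_, pullback.lift_snd _ _ _⟩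
    rw [IsOpenImmersion.lift_fac_assoc, hz]
  · rintro ⟨z, hz⟩
    rw [← hz, Category.assoc z, ← pullback.condition, Category.assoc, Category.assoc, Category.assoc]
    exact (htriv₀.precomp _).precomp z

end Groth.Agent.SeeSaw5
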