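import Groth.Agent.CubeLib.SectionExtend
import Groth.Agent.CohExch.Strata

/-!
# Sections of a fibre extend when the cokernel out of degree zero is flat
-/

set_option autoImplicit false
set_option backward.isDefEq.respectTransparency false

universe u

open CategoryTheory CategoryTheory.Limits AlgebraicGeometry Opposite TopologicalSpace TensorProduct
open HomologicalComplex Function
open Groth.Agent.Coherent Groth.Agent.PicLib Groth.Agent.FlatCxLib Groth.Agent.Coherent.CohBC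

namespace Groth.Agent.SeeSaw5

variable {X S : Scheme.{u}}

/-- Sections of a fibre extend over a chart with flat cokernel out of degree zero. -/
theorem exists_section_extending_of_flat {f : X ⟶ S} {F : X.Modules} [Coh.IsQCoh F]
    (hfl : FlatMod.IsFlatOver f F) (C : CohExch.Chart f F) (hC : C.Flat ((0 : ℕ) : ℤ)) {y : S} (hyV : y ∈ C.U)
    (σ : Γ(CohIII.fiberMod f F y, ⊤)) :
    ∃ (U : S.Opens) (_ : y ∈ U) (t : Γ(F, f ⁻¹ᵁ U)),
      pullSec (f.fiberι y) t = resM (CohIII.fiberMod f F y) le_top σ := by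
  let V : S.Opens := C.U
  have hV : IsAffineOpen V := C.hU
  let _ : (f ⁻¹ᵁ V).toScheme.Over (Spec (CommRingCat.of Γ(S, V))) := CohExch.overSections f hV
  have hsq := isPullback_toSpecSections f hV
  let F' := (Scheme.Modules.pullback (f ⁻¹ᵁ V).ι).obj F
  have hfl' : FlatMod.IsFlatOver ((f ⁻¹ᵁ V).toScheme ↘ Spec (CommRingCat.of Γ(S, V))) F' :=
    fun x => Desc19b.isFlatOverAt_baseChange f (toSpecSections f hV) (f ⁻¹ᵁ V).ι hV.fromSpec hsq F x
      (hfl _)
  let D : PerfData Γ(S, V) (f ⁻¹ᵁ V).toScheme F' :=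
    CohExch.perfDataOfIso C.data ((Scheme.Modules.restrictFunctorIsoPullback (f ⁻¹ᵁ V).ι).app F)
  have hT : (CohIII.TFun (cxA Γ(S, V) D.W F') 0).PreservesEpimorphisms := by
    rw [Functor.PreservesEpimorphisms.iso_iff (D.tIso 0)]
    refine (FlatCxLib.preservesEpi_iff_flat (-((0 : ℕ) : ℤ)) (-1) D.flat_P (by omega)).2 ?_
    exact hC
  -- the fibre as a fibre of the restriction
  let φ : Γ(S, V) ⟶ S.residueField y := S.evaluation V y hyV
  have hφ : Spec.map φ ≫ hV.fromSpec = S.fromSpecResidueField y := by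
    show Spec.map (S.presheaf.germ V y hyV ≫ S.residue y) ≫ hV.fromSpec = _
    rw [Spec.map_comp, Category.assoc]
    show Spec.map (S.residue y) ≫ hV.fromSpecStalk hyV = _
    rw [hV.fromSpecStalk_eq_fromSpecStalk]
    rfl
  have hrange : Set.range (f.fiberι y) ⊆ (f ⁻¹ᵁ V : X.Opens) := by
    rintro _ ⟨z, rfl⟩
    show f.base ((f.fiberι y).base z) ∈ V
    rw [show f.base ((f.fiberι y).base z) = y from
      (f.range_fiberι y).le ⟨z, rfl⟩]
    exact hyV
  let j : f.fiber y ⟶ (f ⁻¹ᵁ V).toScheme :=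
    IsOpenImmersion.lift (f ⁻¹ᵁ V).ι (f.fiberι y) (by rwa [Scheme.Opens.range_ι])
  have hj : j ≫ (f ⁻¹ᵁ V).ι = f.fiberι y := IsOpenImmersion.lift_fac _ _ _
  let _ : (f.fiber y).Over (Spec (CommRingCat.of (S.residueField y))) := CohIII.fiberOver f y
  have hsq' : IsPullback j ((f.fiber y) ↘ Spec (CommRingCat.of (S.residueField y)))
      ((f ⁻¹ᵁ V).toScheme ↘ Spec (CommRingCat.of Γ(S, V))) (Spec.map (CommRingCat.ofHom φ.hom)) := by
    refine IsPullback.of_right (h₁₂ := (f ⁻¹ᵁ V).ι) ?_ ?_ hsq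
    · rw [hj]
      show IsPullback (f.fiberι y) _ f (Spec.map φ ≫ hV.fromSpec)
      rw [hφ]
      exact IsPullback.of_hasPullback _ _
    · refine (cancel_mono hV.fromSpec).1 ?_
      rw [Category.assoc, Category.assoc]
      erw [← hsq.w, reassoc_of% hj, hφ]
      exact pullback.condition
  obtain ⟨c, hc'⟩ := RelVALib.exists_compIso j (f ⁻¹ᵁ V).ι (f.fiberι y) hj F
  have hfr : ∀ k : S.residueField y, ∃ s a : Γ(S, V), φ s ≠ 0 ∧ φ s * k = φ a := by
    intro k
    obtain ⟨z, rfl⟩ := IsLocalRing.residue_surjective (R := S.presheaf.stalk y) k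
    let _ := (S.presheaf.germ V y hyV).hom.toAlgebra
    have := hV.isLocalization_stalk ⟨y, hyV⟩
    obtain ⟨⟨a, s⟩, hz⟩ := IsLocalization.surj (hV.primeIdealOf ⟨y, hyV⟩).asIdeal.primeCompl z
    refine ⟨s.1, a, ?_, ?_⟩
    · have hu : IsUnit (S.presheaf.germ V y hyV s.1) :=
        IsLocalization.map_units (S.presheaf.stalk y) s
      exact (hu.map (S.residue y).hom).ne_zero
    · show (S.residue y) (S.presheaf.germ V y hyV s.1) * (S.residue y) z = _
      rw [← map_mul, mul_comm]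
      exact congrArg (S.residue y) hz
  obtain ⟨s, b, hs, hb⟩ := exists_pullSec_eq_smul j D hfl' hT φ.hom hfr hsq'
    (resM _ le_top (c.hom.app ⊤ σ))
  obtain ⟨m, hm⟩ := exists_pullSec_ι F
    (resM F' (le_top (a := (f ⁻¹ᵁ V).ι ⁻¹ᵁ (f ⁻¹ᵁ V))) b)
  have hmem : y ∈ S.basicOpen s := (S.evaluation_ne_zero_iff_mem_basicOpen y hyV s).1 hs
  have hle : S.basicOpen s ≤ V := S.basicOpen_le s
  have hu : IsUnit (f.app (S.basicOpen s) (S.presheaf.map (homOfLE hle).op s)) :=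
    (S.toRingedSpace.isUnit_res_basicOpen s).map _
  refine ⟨S.basicOpen s, hmem, (↑hu.unit⁻¹ : Γ(X, f ⁻¹ᵁ S.basicOpen s)) • resM F (f.preimage_mono hle) m, ?_⟩
  let W : (f.fiber y).Opens := f.fiberι y ⁻¹ᵁ (f ⁻¹ᵁ S.basicOpen s)
  have hunit : IsUnit ((f.fiberι y).app _ (f.app (S.basicOpen s) (S.presheaf.map (homOfLE hle).op s))) :=
    hu.map _
  refine hunit.smul_left_cancel.1 ?_
  rw [← pullSec_smul, smul_smul, IsUnit.mul_val_inv, one_smul, ← resM_pullSec]
  -- compare through the composite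
  have hpre : f.fiberι y ⁻¹ᵁ (f ⁻¹ᵁ V) ≤ j ⁻¹ᵁ ((f ⁻¹ᵁ V).ι ⁻¹ᵁ (f ⁻¹ᵁ V)) := by
    intro z hz
    show (j ≫ (f ⁻¹ᵁ V).ι).base z ∈ f ⁻¹ᵁ V
    rw [hj]
    exact hz
  refine (app_injective_of_mono c.hom W) ?_
  rw [Scheme.Modules.Hom.app_smul, app_resM, app_resM, hc' _ m hpre, hm, ← resM_pullSec, hb]
  simp only [resM_smulA, resM_resM]
  erw [resM_resM]
  refine congrArg (fun r : Γ(f.fiber y, W) => r •
    resM ((Scheme.Modules.pullback j).obj ((Scheme.Modules.pullback (f ⁻¹ᵁ V).ι).obj F))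
      (le_top : W ≤ ⊤) (c.hom.app ⊤ σ)) ?_
  have hg : ((f.fiber y) ↘ Spec (CommRingCat.of (S.residueField y))) ≫ Spec.map φ ≫ hV.fromSpec =
      f.fiberι y ≫ f := by
    rw [hφ]
    exact pullback.condition.symm
  refine (toGlobal_map_evaluation hV _ φ _ hg hle W le_rfl s).trans ?_
  show (f.fiberι y ≫ f).appLE (S.basicOpen s) ((f.fiberι y ≫ f) ⁻¹ᵁ S.basicOpen s) le_rfl _ = _
  rw [Scheme.Hom.appLE_eq_app, Scheme.Hom.comp_app]
  rfl

end Groth.Agent.SeeSaw5
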